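import Mathlib
import Groth.Prelude.Def_AssocGrMod
import Groth.Prelude.Def_EGA4b

/-! helper7: the associated graded module of the adic filtration is the direct sum of its pieces
over the quotient ring, hence is flat exactly when every piece is. -/

set_option autoImplicit false
set_option linter.style.haveILetI false
set_option linter.unusedVariables false
set_option linter.unusedSectionVars false
universe u
open DirectSum

namespace Groth.Agent.Helper7.NormFlat

variable (A : Type u) [CommRing A] (I : Ideal A) (M : Type u) [AddCommGroup M] [Module A M]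

/-- The filtration piece `IⁿM`. -/
abbrev Nn (n : ℕ) : Submodule A M := I ^ n • (⊤ : Submodule A M)

/-- The piece `IⁿM / I·IⁿM`. -/
abbrev Q (n : ℕ) : Type u := ↥(Nn A I M n) ⧸ (I • (⊤ : Submodule A ↥(Nn A I M n)))

/-- The map `IⁿM → gr(M)`. -/
noncomputable def theta (n : ℕ) : ↥(Nn A I M n) →ₗ[A] AssocGr.GrMod (Rees.powFilt I M) where
  toFun x := (AssocGr.inDegM (Rees.powFilt I M) n
    (show ↥((Rees.powFilt I M).N n) from x) : AssocGr.GrMod (Rees.powFilt I M))
  map_add' x y := by
    have h := map_add (AssocGr.inDegM (Rees.powFilt I M) n)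
      (show ↥((Rees.powFilt I M).N n) from x) (show ↥((Rees.powFilt I M).N n) from y)
    exact congrArg Subtype.val h
  map_smul' a x := by
    exact AssocGr.coe_inDegM_smul (Rees.powFilt I M) n a (show ↥((Rees.powFilt I M).N n) from x)

theorem theta_eq_zero_iff (n : ℕ) (x : ↥(Nn A I M n)) :
    theta A I M n x = 0 ↔ x ∈ (I • (⊤ : Submodule A ↥(Nn A I M n))) := by
  have h1 : theta A I M n x = 0 ↔ (x : M) ∈ I ^ (n + 1) • (⊤ : Submodule A M) := by
    show ((AssocGr.inDegM (Rees.powFilt I M) n x : AssocGr.GrMod (Rees.powFilt I M)) = 0) ↔ _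
    rw [ZeroMemClass.coe_eq_zero, AssocGr.inDegM_eq_zero_iff]
    rfl
  rw [h1]
  have h2 : Submodule.map (Nn A I M n).subtype (I • (⊤ : Submodule A ↥(Nn A I M n))) =
      I ^ (n + 1) • (⊤ : Submodule A M) := by
    rw [Submodule.map_smul'', Submodule.map_subtype_top, pow_succ', mul_smul]
  rw [← h2]
  constructor
  · rintro ⟨y, hy, hyx⟩
    have : y = x := Subtype.ext hyx
    rwa [← this]
  · intro hx
    exact ⟨x, hx, rfl⟩

/-- The induced map on `IⁿM / I·IⁿM`. -/
noncomputable def psiN (n : ℕ) : Q A I M n →ₗ[A] AssocGr.GrMod (Rees.powFilt I M) :=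
  Submodule.liftQ _ (theta A I M n) (fun x hx => (theta_eq_zero_iff A I M n x).mpr hx)

theorem psiN_mk (n : ℕ) (x : ↥(Nn A I M n)) :
    psiN A I M n (Submodule.Quotient.mk x) = theta A I M n x := rfl

theorem psiN_injective (n : ℕ) : Function.Injective (psiN A I M n) := by
  rw [← LinearMap.ker_eq_bot, psiN, Submodule.ker_liftQ_eq_bot']
  ext x
  rw [LinearMap.mem_ker, theta_eq_zero_iff]

theorem psiN_mem (n : ℕ) (q : Q A I M n) :
    psiN A I M n q ∈ AssocGr.grM (Rees.powFilt I M) n := by
  obtain ⟨x, rfl⟩ := Submodule.Quotient.mk_surjective _ q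
  rw [psiN_mk]
  exact (AssocGr.inDegM (Rees.powFilt I M) n x).2

theorem mem_range_psiN (n : ℕ) (g : AssocGr.GrMod (Rees.powFilt I M))
    (hg : g ∈ AssocGr.grM (Rees.powFilt I M) n) : ∃ q, psiN A I M n q = g := by
  obtain ⟨x, hx⟩ := AssocGr.inDegM_surjective (Rees.powFilt I M) n ⟨g, hg⟩
  refine ⟨Submodule.Quotient.mk x, ?_⟩
  rw [psiN_mk]
  show ((AssocGr.inDegM (Rees.powFilt I M) n x : AssocGr.GrMod (Rees.powFilt I M))) = g
  rw [hx]

/-- The total map from the direct sum of pieces. -/
noncomputable def psi : (⨁ n, Q A I M n) →ₗ[A] AssocGr.GrMod (Rees.powFilt I M) :=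
  DirectSum.toModule A ℕ _ (psiN A I M)

theorem psi_of (n : ℕ) (q : Q A I M n) :
    psi A I M (DirectSum.of (fun n => Q A I M n) n q) = psiN A I M n q := by
  rw [psi, ← DirectSum.lof_eq_of A, DirectSum.toModule_lof]

theorem psi_surjective : Function.Surjective (psi A I M) := by
  intro g
  induction g using DirectSum.Decomposition.inductionOn (AssocGr.grM (Rees.powFilt I M)) with
  | zero => exact ⟨0, map_zero _⟩
  | homogeneous m =>
    obtain ⟨q, hq⟩ := mem_range_psiN A I M _ m.1 m.2
    exact ⟨DirectSum.of (fun n => Q A I M n) _ q, by rw [psi_of, hq]⟩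
  | add m m' hm hm' =>
    obtain ⟨x, rfl⟩ := hm
    obtain ⟨x', rfl⟩ := hm'
    exact ⟨x + x', map_add _ _ _⟩

theorem decompose_psi (x : ⨁ n, Q A I M n) (m : ℕ) :
    ((DirectSum.decompose (AssocGr.grM (Rees.powFilt I M)) (psi A I M x) m :
      AssocGr.grM (Rees.powFilt I M) m) : AssocGr.GrMod (Rees.powFilt I M)) =
      psiN A I M m (x m) := by
  induction x using DirectSum.induction_on with
  | zero => simp
  | of n q =>
    rw [psi_of]
    by_cases h : n = m
    · subst h
      rw [DirectSum.decompose_of_mem_same _ (psiN_mem A I M n q), DirectSum.of_eq_same]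
    · rw [DirectSum.decompose_of_mem_ne _ (psiN_mem A I M n q) h, DirectSum.of_eq_of_ne _ _ _ (Ne.symm h),
        map_zero]
  | add x y hx hy =>
    rw [map_add, DirectSum.decompose_add, DirectSum.add_apply, DirectSum.add_apply, map_add,
      ← hx, ← hy]
    rfl

theorem psi_injective : Function.Injective (psi A I M) := by
  rw [injective_iff_map_eq_zero]
  intro x hx
  ext m
  apply psiN_injective A I M m
  rw [← decompose_psi, hx, DirectSum.decompose_zero]
  simp

/-- The associated graded module is the direct sum of its pieces, linearly over `A ⧸ I`. -/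
noncomputable def equiv : (⨁ n, Q A I M n) ≃ₗ[A ⧸ I] AssocGr.GrMod (Rees.powFilt I M) :=
  (LinearEquiv.ofBijective (psi A I M) ⟨psi_injective A I M, psi_surjective A I M⟩).extendScalarsOfSurjective
    Ideal.Quotient.mk_surjective

theorem main : EGA4.IsNormallyFlat I M ↔
    Module.Flat (A ⧸ I) (AssocGr.GrMod (Rees.powFilt I M)) := by
  rw [← Module.Flat.equiv_iff (equiv A I M), Module.Flat.directSum_iff]
  rfl

end Groth.Agent.Helper7.NormFlat
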